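import Groth.Agent.H25Disc.Transport
import Groth.Agent.H25Param.PolyFun

/-!
The forms with a singular zero form a closed set (elimination by a determinant).
-/

set_option autoImplicit false
universe u

namespace Groth.Agent.H25Disc
open MvPolynomial LefPen

variable {k : Type u} [Field k] {n d : ℕ}

theorem homogeneousComponent_mul_right {σ : Type*} {R : Type*} [CommSemiring R] {e N : ℕ} (he : e ≤ N)
    (a F : MvPolynomial σ R) (hF : F.IsHomogeneous e) :
    homogeneousComponent N (a * F) = homogeneousComponent (N - e) a * F := by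
  classical
  conv_lhs => rw [← sum_homogeneousComponent a, Finset.sum_mul, map_sum]
  have h : ∀ i ∈ Finset.range (a.totalDegree + 1),
      homogeneousComponent N (homogeneousComponent i a * F) =
        if i = N - e then homogeneousComponent (N - e) a * F else 0 := by
    intro i _
    rw [homogeneousComponent_of_mem ((homogeneousComponent_isHomogeneous i a).mul hF)]
    by_cases hi : i = N - e
    · subst hi; rw [if_pos (by omega), if_pos rfl]
    · rw [if_neg (by omega), if_neg hi]
  rw [Finset.sum_congr rfl h, Finset.sum_ite_eq']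
  split_ifs with hmem
  · rfl
  · rw [Finset.mem_range] at hmem
    rw [homogeneousComponent_eq_zero (N - e) a (by omega), zero_mul]

/-- degrees of the equations of the singular locus. -/
def eqDeg (d : ℕ) : Option (Fin (n + 1)) → ℕ
  | none => d
  | some _ => d - 1

/-- equations of the singular locus, linear in the form. -/
noncomputable def eqs (k : Type u) [Field k] (n : ℕ) :
    Option (Fin (n + 1)) → MvPolynomial (Fin (n + 1)) k →ₗ[k] MvPolynomial (Fin (n + 1)) k
  | none => LinearMap.id
  | some i => (pderiv i).toLinearMap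

theorem isHomogeneous_eqs (G : Form n k d) (c : Option (Fin (n + 1))) :
    (eqs k n c G.1).IsHomogeneous (eqDeg d c) := by
  cases c with
  | none => exact G.2
  | some i => exact (G.2 : G.1.IsHomogeneous d).pderiv

theorem eval_eqs_eq_zero {G : MvPolynomial (Fin (n + 1)) k} {v : Fin (n + 1) → k} (h : SingAt G v)
    (c : Option (Fin (n + 1))) : eval v (eqs k n c G) = 0 := by
  cases c with
  | none => exact h.1
  | some i => exact h.2 i

theorem eqDeg_le (c : Option (Fin (n + 1))) : eqDeg d c ≤ d := by
  cases c <;> simp [eqDeg]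

theorem exists_separating [IsAlgClosed k] (G0 : Form n k d)
    (h0 : ∀ v : Fin (n + 1) → k, v ≠ 0 → ¬ SingAt G0.1 v) :
    ∃ Q : MvPolynomial (Mon n d) k, eval (fun a => (monBasis k n d).repr G0 a) Q ≠ 0 ∧
      ∀ (G : Form n k d) (v : Fin (n + 1) → k), v ≠ 0 → SingAt G.1 v →
        eval (fun a => (monBasis k n d).repr G a) Q = 0 := by
  classical
  let I := Ideal.span (Set.range fun c => eqs k n c G0.1)
  have hrad : ∀ j, X j ∈ I.radical := by
    intro j
    rw [← vanishingIdeal_zeroLocus_eq_radical (K := k) I, mem_vanishingIdeal_iff]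
    intro v hv
    rw [aeval_eq_eval, eval_X]
    by_contra hvj
    refine h0 v (fun e => hvj (by rw [e]; rfl)) ⟨?_, fun i => ?_⟩
    · exact (aeval_eq_eval v ▸ (mem_zeroLocus_iff.mp hv) _ (Ideal.subset_span ⟨none, rfl⟩) : _)
    · exact (aeval_eq_eval v ▸ (mem_zeroLocus_iff.mp hv) _ (Ideal.subset_span ⟨some i, rfl⟩) : _)
  choose m hm using hrad
  let M := Finset.univ.sup m
  let N := (n + 1) * M + d + 1
  have hforms : ∀ φ : MvPolynomial (Fin (n + 1)) k, φ.IsHomogeneous N → φ ∈ I := by
    intro φ hφ
    rw [← support_sum_monomial_coeff φ]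
    refine Ideal.sum_mem _ fun a ha => ?_
    obtain ⟨j, hj⟩ : ∃ j, M ≤ a j := by
      by_contra! hc
      have h1 : a.degree = N := by
        have := hφ (mem_support_iff.mp ha)
        rwa [show (Finsupp.weight (1 : Fin (n + 1) → ℕ)) a = a.degree by
          rw [Finsupp.degree_eq_weight_one]; rfl] at this
      have h2 : a.degree ≤ (n + 1) * M := by
        rw [Finsupp.degree_apply]
        refine (Finset.sum_le_sum fun j _ => (hc j).le).trans ?_
        rw [Finset.sum_const, smul_eq_mul]
        exact Nat.mul_le_mul_right _ ((Finset.card_le_univ _).trans (Fintype.card_fin _).le)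
      omega
    have h3 : (monomial a (coeff a φ)) = monomial (a - Finsupp.single j (m j)) (coeff a φ) * X j ^ m j := by
      rw [X_pow_eq_monomial, monomial_mul, mul_one, tsub_add_cancel_of_le]
      exact Finsupp.single_le_iff.mpr ((Finset.le_sup (Finset.mem_univ j)).trans hj)
    rw [h3]
    exact Ideal.mul_mem_left _ _ (hm j)
  let Φ : Form n k d →ₗ[k] ((∀ c : Option (Fin (n + 1)), Form n k (N - eqDeg d c)) →ₗ[k] Form n k N) :=
    LinearMap.mk₂ k (fun G a => ⟨∑ c, (a c).1 * eqs k n c G.1, IsHomogeneous.sum _ _ _ fun c _ => by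
        have h := (a c).2
        have hh := IsHomogeneous.mul (h : (a c).1.IsHomogeneous _) (isHomogeneous_eqs G c)
        rwa [Nat.sub_add_cancel ((eqDeg_le c).trans (by omega))] at hh⟩)
      (fun G G' a => Subtype.ext (by simp [mul_add, Finset.sum_add_distrib]))
      (fun t G a => Subtype.ext (by simp [Finset.smul_sum]))
      (fun G a a' => Subtype.ext (by simp [add_mul, Finset.sum_add_distrib]))
      (fun t G a => Subtype.ext (by simp [Finset.smul_sum]))
  have hsurj : Function.Surjective (Φ G0) := by
    intro φ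
    have hmem := hforms φ.1 φ.2
    rw [Ideal.mem_span_range_iff_exists_fun] at hmem
    obtain ⟨a, ha⟩ := hmem
    refine ⟨fun c => ⟨homogeneousComponent (N - eqDeg d c) (a c),
      homogeneousComponent_isHomogeneous _ _⟩, Subtype.ext ?_⟩
    show ∑ c, homogeneousComponent (N - eqDeg d c) (a c) * eqs k n c G0.1 = φ.1
    have hcomp := congrArg (homogeneousComponent N) ha
    rw [map_sum, homogeneousComponent_of_mem φ.2, if_pos rfl] at hcomp
    rw [← hcomp]
    exact Finset.sum_congr rfl fun c _ =>
      (homogeneousComponent_mul_right ((eqDeg_le c).trans (by omega)) _ _ (isHomogeneous_eqs G0 c)).symm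
  haveI : Module.Finite k (Form n k N) := Module.Finite.of_basis (monBasis k n N)
  obtain ⟨s, hs⟩ := (Φ G0).exists_rightInverse_of_surjective (LinearMap.range_eq_top.mpr hsurj)
  let B := monBasis k n N
  let Ψ : Form n k d →ₗ[k] Matrix (Mon n N) (Mon n N) k :=
    (LinearMap.toMatrix B B).toLinearMap ∘ₗ (LinearMap.lcomp k _ s) ∘ₗ Φ
  let A := Algebra.adjoin k (Set.range (fun l : Module.Dual k (Form n k d) => (l : Form n k d → k)))
  let MA : Matrix (Mon n N) (Mon n N) A := fun a b =>
    ⟨fun G => Ψ G a b, Algebra.subset_adjoin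
      ⟨{ toFun := fun G => Ψ G a b
         map_add' := fun G G' => by simp
         map_smul' := fun t G => by simp }, rfl⟩⟩
  have hdet : ∀ G, (MA.det).1 G = LinearMap.det ((Φ G) ∘ₗ s) := by
    intro G
    have hev := RingHom.map_det
      ((Pi.evalRingHom (fun _ : Form n k d => k) G).comp (A.val : A →ₐ[k] _).toRingHom) MA
    rw [← LinearMap.det_toMatrix B]
    exact hev
  obtain ⟨Q, hQ⟩ := H25Param.exists_eval_of_isPolyFun (monBasis k n d) MA.det.2
  refine ⟨Q, ?_, fun G v hv hG => ?_⟩
  · rw [← hQ, hdet, hs, LinearMap.det_id]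
    exact one_ne_zero
  · rw [← hQ, hdet]
    by_contra hne
    obtain ⟨j, hj⟩ : ∃ j, v j ≠ 0 := by
      by_contra! hc
      exact hv (funext hc)
    obtain ⟨z, hz⟩ := (LinearMap.equivOfDetNeZero _ hne).surjective
      (⟨X j ^ N, by simpa using (isHomogeneous_X k j).pow N⟩ : Form n k N)
    change Φ G (s z) = _ at hz
    have h1 := congrArg (fun φ : Form n k N => eval v φ.1) hz
    change eval v (∑ c, _ * eqs k n c G.1) = eval v (X j ^ N) at h1
    rw [map_sum, Finset.sum_eq_zero fun c _ => by rw [map_mul, eval_eqs_eq_zero hG, mul_zero]] at h1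
    simp at h1
    exact pow_ne_zero _ hj h1.symm

end Groth.Agent.H25Disc
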