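import Groth.Agent.H25Disc.Closed
import Groth.Agent.H25Quad.Smooth
import Groth.Agent.H25Param.Count
import Groth.Agent.H8Props.FieldDimHeight

/-!
The discriminant: singular forms of degree `≥ 2` form an irreducible hypersurface.
-/

set_option autoImplicit false
set_option linter.style.haveILetI false
universe u

namespace Groth.Agent.H25Disc
open MvPolynomial LefPen

variable {k : Type u} [Field k] {n d : ℕ}

/-- the origin of the chart. -/
def e0 (k : Type u) [Field k] (n : ℕ) : Fin (n + 1) → k := Pi.single 0 1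

/-- the translation `X_{i+1} ↦ X_{i+1} - t_i X_0`. -/
noncomputable def gT {R : Type*} [CommRing R] (t : Fin n → R) :
    Fin (n + 1) → MvPolynomial (Fin (n + 1)) R :=
  Fin.cons (X 0) fun i => X i.succ - C (t i) * X 0

theorem aeval_gT_gT (t : Fin n → k) (F : MvPolynomial (Fin (n + 1)) k) :
    aeval (gT t) (aeval (gT fun i => -t i) F) = F := by
  rw [← AlgHom.comp_apply]
  conv_rhs => rw [← AlgHom.id_apply (R := k) F]
  congr 1
  refine algHom_ext fun i => ?_
  refine Fin.cases ?_ (fun j => ?_) i <;> simp [gT]

theorem isHomogeneous_aeval_gT (t : Fin n → k) {F : MvPolynomial (Fin (n + 1)) k}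
    (hF : F.IsHomogeneous d) : (aeval (gT t) F).IsHomogeneous d := by
  have := hF.aeval (gT t) (n := 1) (fun i => by
    refine Fin.cases ?_ (fun j => ?_) i
    · simpa [gT] using isHomogeneous_X k (0 : Fin (n + 1))
    · simpa [gT] using (isHomogeneous_X k j.succ).sub (isHomogeneous_C_mul_X (t j) 0))
  rwa [one_mul] at this

/-- **The discriminant is an irreducible polynomial in the coefficients.** -/
theorem exists_irreducible [IsAlgClosed k] (hd : 2 ≤ d) :
    ∃ p : MvPolynomial (Mon n d) k, Prime p ∧ ∀ G : Form n k d,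
      (∃ v : Fin (n + 1) → k, v ≠ 0 ∧ SingAt G.1 v) ↔
        eval (fun a => (monBasis k n d).repr G a) p = 0 := by
  classical
  haveI : Module.Finite k (Form n k d) := Module.Finite.of_basis (monBasis k n d)
  let ψ : Form n k d →ₗ[k] (Fin (n + 1) → k) := LinearMap.pi fun i =>
    (if i = 0 then (aeval (e0 k n)).toLinearMap
      else (aeval (e0 k n)).toLinearMap ∘ₗ (pderiv i).toLinearMap) ∘ₗ Submodule.subtype _
  have hψ0 : ∀ G, ψ G 0 = eval (e0 k n) G.1 := fun G => by
    simp [ψ, aeval_eq_eval]
  have hψs : ∀ G i, ψ G (Fin.succ i) = eval (e0 k n) (pderiv (Fin.succ i) G.1) := fun G i => by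
    simp [ψ, aeval_eq_eval, Fin.succ_ne_zero]
  have hψsurj : Function.Surjective ψ := by
    intro y
    let G : Form n k d := ⟨C (y 0) * X 0 ^ d + ∑ i : Fin n, C (y i.succ) * (X 0 ^ (d - 1) * X i.succ), by
      refine IsHomogeneous.add ?_ (IsHomogeneous.sum _ _ _ fun i _ => ?_)
      · simpa using (isHomogeneous_C (Fin (n + 1)) (y 0)).mul ((isHomogeneous_X k 0).pow d)
      · have h := (isHomogeneous_C (Fin (n + 1)) (y i.succ)).mul
          (((isHomogeneous_X k (0 : Fin (n + 1))).pow (d - 1)).mul (isHomogeneous_X k i.succ))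
        rwa [show 0 + (1 * (d - 1) + 1) = d by omega] at h⟩
    refine ⟨G, funext fun i => ?_⟩
    refine Fin.cases ?_ (fun j => ?_) i
    · rw [hψ0]; simp [G, e0]
    · rw [hψs]
      simp only [G, map_add, map_sum, pderiv_mul, pderiv_C, zero_mul, zero_add, pderiv_pow,
        map_mul, eval_C, eval_X, map_pow]
      rw [Finset.sum_eq_single j]
      · simp [e0, pderiv_X_of_ne (Fin.succ_ne_zero j).symm]
      · intro l _ hl
        simp [e0, pderiv_X_of_ne (show l.succ ≠ j.succ from fun e => hl (Fin.succ_injective _ e))]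
      · simp
  let V0 := LinearMap.ker ψ
  have hsing : ∀ G ∈ V0, SingAt G.1 (e0 k n) := by
    intro G hG
    have hG' := congrFun (LinearMap.mem_ker.mp hG)
    have h00 : eval (e0 k n) G.1 = 0 := (hψ0 G).symm.trans (hG' 0)
    refine ⟨h00, fun i => ?_⟩
    refine Fin.cases ?_ (fun j => (hψs G j).symm.trans (hG' _)) i
    have heul := congrArg (eval (e0 k n)) ((G.2 : G.1.IsHomogeneous d).sum_X_mul_pderiv)
    rw [map_sum, map_nsmul, h00, smul_zero, Finset.sum_eq_single 0] at heul
    · simpa [e0] using heul
    · intro l _ hl; simp [e0, hl]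
    · simp
  have hV0 : ∀ G : Form n k d, SingAt G.1 (e0 k n) → G ∈ V0 := by
    intro G hG
    rw [LinearMap.mem_ker]
    funext i
    refine Fin.cases ?_ (fun j => ?_) i
    · rw [hψ0]; exact hG.1
    · rw [hψs]; exact hG.2 _
  let M := Module.finrank k V0
  have hN : Fintype.card (Mon n d) = M + (n + 1) := by
    rw [← Module.finrank_eq_card_basis (monBasis k n d), ← ψ.finrank_range_add_finrank_ker,
      LinearMap.range_eq_top.mpr hψsurj, finrank_top, Module.finrank_fin_fun, add_comm]
  haveI : Module.Free k ↥V0 := Module.Free.of_divisionRing k ↥V0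
  let bV : Module.Basis (Fin M) k V0 := Module.finBasis k V0
  let σ := Fin n ⊕ Fin M
  let GU : MvPolynomial (Fin (n + 1)) (MvPolynomial σ k) :=
    ∑ a, C (X (Sum.inr a)) * aeval (gT fun i => (X (Sum.inl i) : MvPolynomial σ k)) (bV a).1.1
  let f : Mon n d → MvPolynomial σ k := fun a => coeff a.1 GU
  let φ : MvPolynomial (Mon n d) k →ₐ[k] MvPolynomial σ k := aeval f
  let P := RingHom.ker φ.toRingHom
  let coords : Form n k d → Mon n d → k := fun G a => (monBasis k n d).repr G a
  have hGU : ∀ x : σ → k, MvPolynomial.map (eval x) GU =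
      aeval (gT fun i => x (Sum.inl i)) (∑ a, x (Sum.inr a) • bV a).1.1 := by
    intro x
    have hh : ∀ F : MvPolynomial (Fin (n + 1)) k,
        MvPolynomial.map (eval x) (aeval (gT fun i => (X (Sum.inl i) : MvPolynomial σ k)) F) =
          aeval (gT fun i => x (Sum.inl i)) F := by
      intro F
      induction F using MvPolynomial.induction_on with
      | C a => simp [MvPolynomial.algebraMap_apply]
      | add p q hp hq => simp [hp, hq]
      | mul_X p i hp =>
        rw [map_mul, map_mul, hp, map_mul, aeval_X, aeval_X]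
        congr 1
        refine Fin.cases ?_ (fun j => ?_) i <;> simp [gT]
    simp only [GU, map_sum, map_mul, map_C, eval_X, hh, Submodule.coe_sum, Submodule.coe_smul,
      Algebra.smul_def, MvPolynomial.algebraMap_eq, aeval_C]
  let img : (σ → k) → Form n k d := fun x =>
    ⟨aeval (gT fun i => x (Sum.inl i)) (∑ a, x (Sum.inr a) • bV a).1.1,
      isHomogeneous_aeval_gT _ (∑ a, x (Sum.inr a) • bV a).1.2⟩
  have hcoord : ∀ x F, eval x (φ F) = eval (coords (img x)) F := by
    intro x F
    have : coords (img x) = fun a => eval x (f a) := by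
      funext a
      change coeff a.1 (img x).1 = eval x (coeff a.1 GU)
      rw [← coeff_map, hGU]
    rw [this]
    exact (H25Param.eval_comp_point f (aeval x) F).symm
  have himg_sing : ∀ x, SingAt (img x).1 (Fin.cons 1 fun i => x (Sum.inl i)) := fun x =>
    singAt_aeval (hsing _ (∑ a, x (Sum.inr a) • bV a).2) _ fun i => by
      refine Fin.cases ?_ (fun j => ?_) i <;> simp [gT, e0, Fin.succ_ne_zero]
  have hchart : ∀ (G : Form n k d) (v : Fin (n + 1) → k), v 0 = 1 → SingAt G.1 v →
      ∃ x, img x = G ∧ ∀ i, x (Sum.inl i) = v i.succ := by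
    intro G v hv hG
    let t : Fin n → k := fun i => v i.succ
    let G' : Form n k d := ⟨aeval (gT fun i => -t i) G.1, isHomogeneous_aeval_gT _ G.2⟩
    have hG' : G' ∈ V0 := hV0 _ (singAt_aeval hG _ fun i => by
      refine Fin.cases ?_ (fun j => ?_) i <;> simp [gT, e0, t, hv, Fin.succ_ne_zero])
    refine ⟨Sum.elim t (bV.repr ⟨G', hG'⟩), Subtype.ext ?_, fun i => rfl⟩
    change aeval (gT t) (∑ a, bV.repr ⟨G', hG'⟩ a • bV a).1.1 = G.1
    rw [bV.sum_repr]
    exact aeval_gT_gT t G.1
  -- vanishing on singular forms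
  have hvan : ∀ (G : Form n k d) (v : Fin (n + 1) → k), v ≠ 0 → SingAt G.1 v →
      ∀ F ∈ P, eval (coords G) F = 0 := by
    have hone : ∀ (G : Form n k d) (v : Fin (n + 1) → k), v 0 ≠ 0 → SingAt G.1 v →
        ∀ F ∈ P, eval (coords G) F = 0 := by
      intro G v hv hG F hF
      obtain ⟨x, hx, -⟩ := hchart G ((v 0)⁻¹ • v) (by simp [hv]) (hG.smul G.2 _)
      have hF0 : φ F = 0 := hF
      rw [← hx, ← hcoord, hF0, map_zero]
    intro G v hv hG F hF
    by_cases hv0 : v 0 = 0
    swap; · exact hone G v hv0 hG F hF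
    obtain ⟨j, hj⟩ : ∃ j, v j ≠ 0 := by
      by_contra! hc
      exact hv (funext hc)
    let g : k → Fin (n + 1) → MvPolynomial (Fin (n + 1)) k := fun s i =>
      if i = 0 then X 0 - C (s * (v j)⁻¹) * X j else X i
    let gP : Fin (n + 1) → MvPolynomial (Fin (n + 1)) (Polynomial k) := fun i =>
      if i = 0 then X 0 - C (Polynomial.X * Polynomial.C (v j)⁻¹) * X j else X i
    let h : Polynomial k := aeval (fun a : Mon n d => coeff a.1 (aeval gP G.1)) F
    have hs : ∀ s, h.eval s = eval (fun a : Mon n d => coeff a.1 (aeval (g s) G.1)) F := by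
      intro s
      have hmap : ∀ H : MvPolynomial (Fin (n + 1)) k,
          MvPolynomial.map (Polynomial.evalRingHom s) (aeval gP H) = aeval (g s) H := by
        intro H
        induction H using MvPolynomial.induction_on with
        | C a => simp [MvPolynomial.algebraMap_apply]
        | add p q hp hq => simp [hp, hq]
        | mul_X p i hp =>
          rw [map_mul, map_mul, hp, map_mul, aeval_X, aeval_X]
          congr 1
          by_cases hi : i = 0
          · simp [gP, g, hi]; ring
          · simp [gP, g, hi]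
      have := comp_aeval (R := k) (fun a : Mon n d => coeff a.1 (aeval gP G.1))
        (Polynomial.aeval s : Polynomial k →ₐ[k] k)
      have h2 := congrArg (fun ψ : MvPolynomial (Mon n d) k →ₐ[k] k => ψ F) this
      simp only [AlgHom.comp_apply, Polynomial.coe_aeval_eq_eval] at h2
      refine h2.trans ?_
      rw [aeval_eq_eval]
      congr 1
      congr 1
      funext a
      rw [← hmap, coeff_map]
      rfl
    have hhom : ∀ s, (aeval (g s) G.1).IsHomogeneous d := fun s => by
      have := (G.2 : G.1.IsHomogeneous d).aeval (g s) (n := 1) (fun i => by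
        simp only [g]; split_ifs
        · exact (isHomogeneous_X k 0).sub (isHomogeneous_C_mul_X _ _)
        · exact isHomogeneous_X k i)
      rwa [one_mul] at this
    have hzero : h = 0 := by
      refine Polynomial.eq_zero_of_infinite_isRoot _ (Set.infinite_of_finite_compl ?_)
      refine (Set.finite_singleton (0 : k)).subset fun s hs0 => ?_
      by_contra hs1
      apply hs0
      change h.eval s = 0
      rw [hs]
      refine hone ⟨_, hhom s⟩ (v + Pi.single 0 s) (by simpa [hv0] using hs1)
        (singAt_aeval hG (g s) fun i => ?_) F hF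
      by_cases hi : i = 0
      · subst hi
        have hj0 : j ≠ 0 := fun e => hj (e ▸ hv0)
        simp [g, hv0, hj0, hj]
      · simp [g, hi]
    have := hs 0
    rw [hzero, Polynomial.eval_zero] at this
    have hg0 : aeval (g 0) G.1 = G.1 := by
      have : g 0 = X := funext fun i => by by_cases hi : i = 0 <;> simp [g, hi]
      rw [this, aeval_X_left_apply]
    rw [hg0] at this
    exact this.symm
  have hclosed : ∀ G : Form n k d, (∀ F ∈ P, eval (coords G) F = 0) →
      ∃ v : Fin (n + 1) → k, v ≠ 0 ∧ SingAt G.1 v := by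
    intro G hG
    by_contra! hc
    obtain ⟨Q, hQ, hQv⟩ := exists_separating G fun v hv hs => hc v hv hs
    refine hQ (hG Q ?_)
    change φ Q = 0
    refine MvPolynomial.funext fun x => ?_
    rw [hcoord, map_zero]
    exact hQv (img x) _ (fun e => by simpa using congrFun e 0) (himg_sing x)
  -- height one
  haveI hPp : P.IsPrime := RingHom.ker_isPrime _
  have hP0 : P ≠ ⊥ := by
    obtain ⟨Q, hQ0, hQ⟩ := H25Param.exists_avoid (R := MvPolynomial σ k) f (by
      rw [MvPolynomial.trdeg_of_isDomain, Cardinal.mk_fintype, Cardinal.lift_natCast,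
        Fintype.card_sum, Fintype.card_fin, Fintype.card_fin, hN]
      exact_mod_cast (show n + M < M + (n + 1) by omega))
    intro hbot
    refine hQ0 ?_
    have : Q ∈ P := by
      change φ Q = 0
      refine MvPolynomial.funext fun x => ?_
      rw [map_zero]
      exact (H25Param.eval_comp_point f (aeval x) Q).symm.trans (hQ (aeval x))
    rwa [hbot, Ideal.mem_bot] at this
  let q' : MvPolynomial (Fin (n + 1)) k := rename Fin.succ (H25Quad.q k n)
  have hq' : (X 0 ^ (d - 2) * q').IsHomogeneous d := by
    have := ((isHomogeneous_X k (0 : Fin (n + 1))).pow (d - 2)).mul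
      ((H25Quad.isHomogeneous_q (k := k) n).rename_isHomogeneous (f := Fin.succ))
    rwa [show 1 * (d - 2) + 2 = d by omega] at this
  let G0 : Form n k d := ⟨_, hq'⟩
  have hG0s : SingAt G0.1 (e0 k n) := by
    have he : e0 k n ∘ Fin.succ = 0 := funext fun i => by simp [e0, Fin.succ_ne_zero]
    have h1 : eval (e0 k n) q' = 0 := by
      rw [eval_rename, he]; simp [H25Quad.q, apply_ite]
    refine ⟨by simp [G0, h1], fun i => ?_⟩
    have h2 : eval (e0 k n) (pderiv i q') = 0 := by
      refine Fin.cases ?_ (fun j => ?_) i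
      · rw [pderiv_eq_zero_of_notMem_vars, map_zero]
        intro hmem
        obtain ⟨l, -, hl⟩ := Finset.mem_image.mp (vars_rename _ _ hmem)
        exact Fin.succ_ne_zero l hl
      · rw [pderiv_rename (Fin.succ_injective _), eval_rename, he, H25Quad.eval_pderiv_q]
        simp
    simp [G0, pderiv_mul, h1, h2]
  let x0 : σ → k := Sum.elim 0 (bV.repr ⟨G0, hV0 _ hG0s⟩)
  have hfib : ∀ x : σ → k, img x = G0 → x = x0 := by
    intro x hx
    let t : Fin n → k := fun i => x (Sum.inl i)
    have hs := himg_sing x
    rw [hx] at hs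
    have hv : (Fin.cons 1 t : Fin (n + 1) → k) ∘ Fin.succ = t := funext fun i => by simp
    have h1 : eval t (H25Quad.q k n) = 0 := by
      have := hs.1
      simpa [G0, q', eval_rename, t, hv] using this
    have ht : t = 0 := H25Quad.eq_zero_of_q t h1 fun l => by
      have := hs.2 l.succ
      simp [G0, q', pderiv_mul, eval_rename, pderiv_rename (Fin.succ_injective _), t,
        Function.comp_def, pderiv_X_of_ne (Fin.succ_ne_zero l).symm, pderiv_pow] at this
      exact this
    have hb : (∑ a, x (Sum.inr a) • bV a) = ⟨G0, hV0 _ hG0s⟩ := by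
      refine Subtype.ext (Subtype.ext ?_)
      have h2 := congrArg Subtype.val hx
      change aeval (gT t) (∑ a, x (Sum.inr a) • bV a).1.1 = G0.1 at h2
      have h3 : gT t = X := funext fun i => by
        refine Fin.cases ?_ (fun j => ?_) i <;> simp [gT, ht]
      rwa [h3, aeval_X_left_apply] at h2
    funext s
    rcases s with i | a
    · exact congrFun ht i
    · have := congrArg (fun w => bV.repr w a) hb
      rw [bV.repr_sum_self] at this
      exact this
  -- the dimension of the image
  let M0 := RingHom.ker (eval x0 : MvPolynomial σ k →+* k)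
  haveI hM0 : M0.IsMaximal := RingHom.ker_isMaximal_of_surjective _ fun a => ⟨C a, by simp⟩
  let C' := MvPolynomial (Mon n d) k ⧸ P
  let alg : C' →+* MvPolynomial σ k := RingHom.kerLift φ.toRingHom
  letI : Algebra C' (MvPolynomial σ k) := alg.toAlgebra
  let pC := M0.comap (algebraMap C' (MvPolynomial σ k))
  haveI : M0.LiesOver pC := ⟨rfl⟩
  let J := pC.map (algebraMap C' (MvPolynomial σ k))
  have hzl : zeroLocus k J = {x0} := by
    refine Set.eq_singleton_iff_unique_mem.mpr ⟨fun F hF => ?_, fun x hx => hfib x ?_⟩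
    · rw [aeval_eq_eval]
      exact (Ideal.map_comap_le (f := algebraMap C' (MvPolynomial σ k)) hF : F ∈ M0)
    · have hcx : ∀ a, coords (img x) a = coords G0 a := by
        intro a
        have h3 : Ideal.Quotient.mk P (X a - C (coords G0 a)) ∈ pC := by
          change eval x0 (φ (X a - C (coords G0 a))) = 0
          rw [hcoord, show img x0 = G0 from ?_]
          · simp
          · refine Subtype.ext ?_
            change aeval (gT fun i : Fin n => (0 : k))
              (∑ b, bV.repr ⟨G0, hV0 _ hG0s⟩ b • bV b).1.1 = G0.1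
            rw [bV.sum_repr, show (gT fun i : Fin n => (0 : k)) = X from funext fun i => by
              refine Fin.cases ?_ (fun j => ?_) i <;> simp [gT], aeval_X_left_apply]
        have h4 := hx _ (Ideal.mem_map_of_mem (algebraMap C' (MvPolynomial σ k)) h3)
        rw [aeval_eq_eval] at h4
        have h5 : eval x (φ (X a - C (coords G0 a))) = 0 := h4
        rw [hcoord] at h5
        simpa [sub_eq_zero] using h5
      exact (monBasis k n d).repr.injective (Finsupp.ext hcx)
  have hrad : J.radical = M0 := by
    rw [← vanishingIdeal_zeroLocus_eq_radical (K := k) J, hzl]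
    ext F
    simp [mem_vanishingIdeal_iff, M0, aeval_eq_eval]
  have hzero : (M0.map (Ideal.Quotient.mk J)).height = 0 := by
    haveI : Ring.KrullDimLE 0 (MvPolynomial σ k ⧸ J) := Ring.KrullDimLE.mk₀ fun I hI => by
      have hJI : J ≤ I.comap (Ideal.Quotient.mk J) := fun F hF => by
        rw [Ideal.mem_comap, Ideal.Quotient.eq_zero_iff_mem.mpr hF]; exact I.zero_mem
      have hle : M0 ≤ I.comap (Ideal.Quotient.mk J) := hrad ▸ ((hI.comap (Ideal.Quotient.mk J)).radical ▸ Ideal.radical_mono hJI)
      have heq : I.comap (Ideal.Quotient.mk J) = M0 := (hM0.eq_of_le (hI.comap (Ideal.Quotient.mk J)).ne_top hle).symm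
      rw [← Ideal.map_comap_of_surjective _ Ideal.Quotient.mk_surjective I, heq]
      refine Ideal.IsMaximal.map_of_surjective_of_ker_le Ideal.Quotient.mk_surjective ?_
      rw [Ideal.mk_ker, ← hrad]; exact Ideal.le_radical
    have hne : M0.map (Ideal.Quotient.mk J) ≠ ⊤ := by
      refine (Ideal.IsMaximal.map_of_surjective_of_ker_le (m := M0) Ideal.Quotient.mk_surjective ?_).ne_top
      rw [Ideal.mk_ker, ← hrad]; exact Ideal.le_radical
    have h1 := (Ideal.height_le_ringKrullDim_of_ne_top hne).trans
      (Ring.krullDimLE_iff.mp (inferInstance : Ring.KrullDimLE 0 (MvPolynomial σ k ⧸ J)))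
    exact le_antisymm (by exact_mod_cast h1) zero_le
  have hMheight : (M0.height : WithBot ℕ∞) = ((n + M : ℕ) : WithBot ℕ∞) := by
    have h := H8Props.FieldDim.height_add_dim_quotient k (MvPolynomial σ k) M0
    rw [ringKrullDim_eq_zero_of_isField ((Ideal.Quotient.maximal_ideal_iff_isField_quotient _).mp hM0),
      add_zero, MvPolynomial.ringKrullDim_of_isNoetherianRing, ringKrullDim_eq_zero_of_field, zero_add,
      Nat.card_eq_fintype_card, Fintype.card_sum, Fintype.card_fin, Fintype.card_fin] at h
    exact h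
  have hPheight : P.height ≤ 1 := by
    have h1 := Ideal.height_le_height_add_of_liesOver pC M0
    rw [hzero, add_zero] at h1
    have h2 := Ideal.height_le_ringKrullDim_of_ne_top (Ideal.IsPrime.ne_top (inferInstance : pC.IsPrime))
    have h3 : ((n + M : ℕ) : WithBot ℕ∞) ≤ ringKrullDim C' :=
      hMheight ▸ (WithBot.coe_le_coe.mpr h1).trans h2
    have h4 := H8Props.FieldDim.height_add_dim_quotient k (MvPolynomial (Mon n d) k) P
    rw [MvPolynomial.ringKrullDim_of_isNoetherianRing, ringKrullDim_eq_zero_of_field, zero_add,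
      Nat.card_eq_fintype_card, hN] at h4
    by_contra hlt
    have h5 : (2 : ℕ∞) ≤ P.height := Order.add_one_le_of_lt (not_le.mp hlt)
    have h6 := add_le_add (WithBot.coe_le_coe.mpr h5) h3
    rw [h4] at h6
    norm_cast at h6
    omega
  obtain ⟨p, hpP, hp⟩ := hPp.exists_mem_prime_of_ne_bot hP0
  haveI : (Ideal.span {p}).IsPrime := (Ideal.span_singleton_prime hp.ne_zero).mpr hp
  have hspan : Ideal.span {p} = P := by
    refine eq_of_le_of_not_lt ((Ideal.span_singleton_le_iff_mem _).mpr hpP) fun hlt => ?_
    have hlt' : (⊥ : Ideal (MvPolynomial (Mon n d) k)) < Ideal.span {p} :=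
      bot_lt_iff_ne_bot.mpr (by simpa using hp.ne_zero)
    have a1 := Ideal.height_strict_mono_of_isPrime hlt'
    have a2 := Ideal.height_strict_mono_of_isPrime hlt
    have a3 := (Order.add_one_le_of_lt a1).trans_lt (a2.trans_le hPheight)
    exact absurd a3 (not_lt.mpr le_add_self)
  refine ⟨p, hp, fun G => ⟨?_, fun h0 => hclosed G fun F hF => ?_⟩⟩
  · rintro ⟨v, hv, hG⟩
    exact hvan G v hv hG p hpP
  · obtain ⟨c, rfl⟩ := Ideal.mem_span_singleton'.mp (hspan ▸ hF)
    rw [map_mul]
    exact mul_eq_zero_of_right _ h0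

end Groth.Agent.H25Disc
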